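import Groth.Prelude.Def_AGF
import Groth.Agent.Sga3B.PinComb829


/-!
# Isogenies of root data: reflections, exponents, transport of a base
(for the isogeny theorem S3931)
-/

set_option autoImplicit false
set_option linter.unusedSectionVars false

open Module Set Function

namespace Groth.Agent.Agf.H593.IsogBase

open Groth.Agent.Sga3B

section abstractLemmas

variable {ι ι' V V' : Type*} [AddCommGroup V] [Module.Free ℤ V] [Module.Finite ℤ V]
  [AddCommGroup V'] (e : ι ≃ ι') (supp : Finset ι) (v : ι → V) (v' : ι' → V') (h : V' →+ V)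
  (s r : ι → ℤ)

/-- positive multiples of coordinate functionals -/
lemma exists_lam (hli : LinearIndepOn ℤ v supp) {a : ι} (ha : a ∈ supp) :
    ∃ lam : V →+ ℤ, 0 < lam (v a) ∧ ∀ b ∈ supp, b ≠ a → lam (v b) = 0 := by
  classical
  obtain ⟨lam, N, hN, hlam⟩ := PinComb.exists_functional_of_linearIndependent
    (fun k : (supp : Set ι) => v k) hli (fun k => if (k : ι) = a then 1 else 0)
  refine ⟨lam, ?_, fun b hb hba => ?_⟩
  · have := hlam ⟨a, ha⟩
    simp only [if_true, mul_one] at this
    rw [this]
    exact hN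
  · have := hlam ⟨b, hb⟩
    simp only [if_neg hba, mul_zero] at this
    exact this

variable {e supp v v' h s r}

/-- the pulled back functionals -/
lemma exists_lam' (hs : ∀ i, 0 < s i) (hr : ∀ i, 0 < r i)
    (hvr : ∀ i, s i • h (v' (e i)) = r i • v i) (hli : LinearIndepOn ℤ v supp) {a : ι}
    (ha : a ∈ supp) : ∃ lam : V →+ ℤ, 0 < lam (v a) ∧ (∀ b ∈ supp, b ≠ a → lam (v b) = 0) ∧
      0 < lam (h (v' (e a))) ∧ ∀ b ∈ supp, b ≠ a → lam (h (v' (e b))) = 0 := by
  obtain ⟨lam, h1, h2⟩ := exists_lam supp v hli ha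
  refine ⟨lam, h1, h2, ?_, fun b hb hba => ?_⟩
  · have h3 := congrArg lam (hvr a)
    rw [map_zsmul, map_zsmul, smul_eq_mul, smul_eq_mul] at h3
    have h4 : 0 < s a * lam (h (v' (e a))) := by
      rw [h3]; exact mul_pos (hr a) h1
    exact pos_of_mul_pos_right h4 (hs a).le
  · have h3 := congrArg lam (hvr b)
    rw [map_zsmul, map_zsmul, smul_eq_mul, smul_eq_mul, h2 b hb hba, mul_zero] at h3
    exact (mul_eq_zero.mp h3).resolve_left (hs b).ne'

lemma linearIndepOn_map (hs : ∀ i, 0 < s i) (hr : ∀ i, 0 < r i)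
    (hvr : ∀ i, s i • h (v' (e i)) = r i • v i) (hli : LinearIndepOn ℤ v supp) :
    LinearIndepOn ℤ v' (supp.map e.toEmbedding : Finset ι') := by
  rw [linearIndepOn_finset_iff]
  intro f hf i' hi'
  obtain ⟨a, ha, rfl⟩ := Finset.mem_map.mp hi'
  obtain ⟨lam, h1, h2, h3, h4⟩ := exists_lam' hs hr hvr hli ha
  rw [Finset.sum_map] at hf
  have h5 := congrArg (fun x => lam (h x)) hf
  simp only [map_sum, map_zsmul, map_zero, smul_eq_mul] at h5
  rw [Finset.sum_eq_single a] at h5
  · exact (mul_eq_zero.mp h5).resolve_right h3.ne'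
  · intro b hb hba
    rw [Equiv.coe_toEmbedding, h4 b hb hba, mul_zero]
  · intro h
    exact absurd ha h

lemma mem_closure_map (hs : ∀ i, 0 < s i) (hr : ∀ i, 0 < r i)
    (hvr : ∀ i, s i • h (v' (e i)) = r i • v i) (hli : LinearIndepOn ℤ v supp) {i : ι}
    (hi : v i ∈ AddSubmonoid.closure (v '' supp))
    (hi' : v' (e i) ∈ Submodule.span ℤ (v' '' (supp.map e.toEmbedding : Finset ι'))) :
    v' (e i) ∈ AddSubmonoid.closure (v' '' (supp.map e.toEmbedding : Finset ι')) := by
  obtain ⟨c, hc⟩ := (Submodule.mem_span_image_finset_iff_exists_fun' ℤ).mp hi'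
  rw [← hc]
  refine AddSubmonoid.sum_mem _ fun i' hi' => ?_
  obtain ⟨a, ha, rfl⟩ := Finset.mem_map.mp hi'
  obtain ⟨lam, h1, h2, h3, h4⟩ := exists_lam' hs hr hvr hli ha
  have h5 : 0 ≤ lam (v i) := by
    clear hi' hc
    generalize v i = w at hi
    induction hi using AddSubmonoid.closure_induction with
    | mem x hx =>
      obtain ⟨b, hb, rfl⟩ := hx
      by_cases hba : b = a
      · rw [hba]; exact h1.le
      · rw [h2 b hb hba]
    | zero => rw [map_zero]
    | add x y _ _ hx hy => rw [map_add]; exact add_nonneg hx hy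
  have h6 : s i * lam (h (v' (e i))) = r i * lam (v i) := by
    have := congrArg lam (hvr i)
    rwa [map_zsmul, map_zsmul, smul_eq_mul, smul_eq_mul] at this
  have h7 : 0 ≤ lam (h (v' (e i))) := by
    have : 0 ≤ s i * lam (h (v' (e i))) := by
      rw [h6]; exact mul_nonneg (hr i).le h5
    exact nonneg_of_mul_nonneg_right this (hs i)
  have h8 : lam (h (v' (e i))) = c (e a) * lam (h (v' (e a))) := by
    rw [← hc, Finset.sum_map]
    simp only [map_sum, map_zsmul, smul_eq_mul]
    rw [Finset.sum_eq_single a]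
    · rfl
    · intro b hb hba
      rw [Equiv.coe_toEmbedding, h4 b hb hba, mul_zero]
    · intro h
      exact absurd ha h
  have h9 : 0 ≤ c (e a) := by
    rw [h8] at h7
    exact nonneg_of_mul_nonneg_left h7 h3
  obtain ⟨n, hn⟩ := Int.eq_ofNat_of_zero_le h9
  rw [Equiv.coe_toEmbedding, hn, natCast_zsmul]
  exact AddSubmonoid.nsmul_mem _ (AddSubmonoid.subset_closure
    (Set.mem_image_of_mem v' (Finset.mem_coe.mpr (Finset.mem_map_of_mem _ ha)))) n

end abstractLemmas

section isog

variable {idx idx' M M' : Type*} [AddCommGroup M] [AddCommGroup M'] [Module.Free ℤ M']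
  {P : RootPairing idx ℤ M (Module.Dual ℤ M)} {P' : RootPairing idx' ℤ M' (Module.Dual ℤ M')}
  {p : ℕ} (φ : AGF.RootIsog P P' p)

lemma q_pos (hp : p ≠ 0) (a : idx) : 0 < φ.q a := by
  obtain ⟨m, hm⟩ := φ.q_pow a
  rw [hm]
  exact Nat.pow_pos (Nat.pos_of_ne_zero hp)

/-- the relation between the pairings -/
lemma pairing_rel (hP : P.toLinearMap = Module.Dual.eval ℤ M)
    (hP' : P'.toLinearMap = Module.Dual.eval ℤ M') (a c : idx) :
    (φ.q a : ℤ) * P'.pairing (φ.e c) (φ.e a) = (φ.q c : ℤ) * P.pairing c a := by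
  have h1 := LinearMap.congr_fun (φ.coroot a) (P'.root (φ.e c))
  rw [LinearMap.comp_apply, φ.root, map_zsmul, LinearMap.smul_apply, smul_eq_mul, smul_eq_mul] at h1
  rw [← P.root_coroot_eq_pairing, ← P'.root_coroot_eq_pairing, hP, hP']
  exact h1.symm

/-- positively proportional roots of a reduced root datum are equal -/
lemma eq_of_smul_eq_smul [P'.IsReduced] {i j : idx'} {m n : ℤ} (hm : 0 < m) (hn : 0 < n)
    (h : m • P'.root i = n • P'.root j) : i = j ∧ m = n := by
  have hli : ¬ LinearIndependent ℤ ![P'.root i, P'.root j] := by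
    intro hl
    have := LinearIndependent.pair_iff.mp hl m (-n) (by rw [h, neg_smul, add_neg_cancel])
    omega
  rcases RootPairing.IsReduced.eq_or_eq_neg (P := P') i j hli with h1 | h1
  · have h2 : i = j := P'.root.injective h1
    refine ⟨h2, ?_⟩
    rw [h2, ← sub_eq_zero, ← sub_smul] at h
    have := (smul_eq_zero.mp h).resolve_right (P'.ne_zero j)
    omega
  · exfalso
    rw [h1, smul_neg, neg_eq_iff_add_eq_zero, ← add_smul] at h
    have := (smul_eq_zero.mp h).resolve_right (P'.ne_zero j)
    omega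

variable (hp : p ≠ 0) (hP : P.toLinearMap = Module.Dual.eval ℤ M)
    (hP' : P'.toLinearMap = Module.Dual.eval ℤ M')

include hp hP hP' in
/-- isogenies commute with reflections, and the exponents are invariant under reflections -/
theorem e_q_reflectionPerm [P'.IsReduced] (a c : idx) :
    φ.e (P.reflectionPerm a c) = P'.reflectionPerm (φ.e a) (φ.e c) ∧
      φ.q (P.reflectionPerm a c) = φ.q c := by
  have h1 : φ.f (P'.root (P'.reflectionPerm (φ.e a) (φ.e c))) =
      (φ.q c : ℤ) • P.root (P.reflectionPerm a c) := by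
    rw [P'.root_reflectionPerm, P'.reflection_apply_root, map_sub, map_zsmul, φ.root, φ.root,
      P.root_reflectionPerm, P.reflection_apply_root, smul_sub, smul_smul, smul_smul,
      ← pairing_rel φ hP hP', mul_comm]
  have h2 := φ.root (P.reflectionPerm a c)
  have h3 : (φ.q c : ℤ) • P'.root (φ.e (P.reflectionPerm a c)) =
      (φ.q (P.reflectionPerm a c) : ℤ) • P'.root (P'.reflectionPerm (φ.e a) (φ.e c)) := by
    apply φ.injective
    rw [map_zsmul, map_zsmul, h1, h2, smul_comm]
  obtain ⟨h4, h5⟩ := eq_of_smul_eq_smul (P' := P') (by exact_mod_cast q_pos φ hp c)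
    (by exact_mod_cast q_pos φ hp _) h3
  exact ⟨h4, by exact_mod_cast h5.symm⟩

include hp hP hP' in
lemma e_reflectionPerm [P'.IsReduced] (a c : idx) :
    φ.e (P.reflectionPerm a c) = P'.reflectionPerm (φ.e a) (φ.e c) :=
  (e_q_reflectionPerm φ hp hP hP' a c).1

include hp hP hP' in
lemma q_reflectionPerm [P'.IsReduced] (a c : idx) : φ.q (P.reflectionPerm a c) = φ.q c :=
  (e_q_reflectionPerm φ hp hP hP' a c).2


lemma exists_section : ∃ (g : M →ₗ[ℤ] M') (N : ℤ), 0 < N ∧ ∀ m, φ.f (g m) = N • m := by
  have := φ.finite_coker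
  have hmem : ∀ m : M, (Nat.card (M ⧸ LinearMap.range φ.f) : ℤ) • m ∈ LinearMap.range φ.f := by
    intro m
    rw [← Submodule.Quotient.mk_eq_zero, Submodule.Quotient.mk_smul, natCast_zsmul]
    exact card_nsmul_eq_zero'
  refine ⟨(LinearEquiv.ofInjective φ.f φ.injective).symm.toLinearMap.comp
    (LinearMap.codRestrict (LinearMap.range φ.f)
      ((Nat.card (M ⧸ LinearMap.range φ.f) : ℤ) • LinearMap.id) hmem),
    Nat.card (M ⧸ LinearMap.range φ.f), by exact_mod_cast Nat.card_pos, fun m => ?_⟩
  have h1 := LinearEquiv.apply_symm_apply (LinearEquiv.ofInjective φ.f φ.injective)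
    (LinearMap.codRestrict (LinearMap.range φ.f)
      ((Nat.card (M ⧸ LinearMap.range φ.f) : ℤ) • LinearMap.id) hmem m)
  exact congrArg Subtype.val h1

lemma root_self (P : RootPairing idx ℤ M (Module.Dual ℤ M)) (i : idx) :
    P.root (P.reflectionPerm i i) = - P.root i := by
  rw [P.root_reflectionPerm, P.reflection_apply_self]

lemma coroot_self (P : RootPairing idx ℤ M (Module.Dual ℤ M)) (i : idx) :
    P.coroot (P.reflectionPerm i i) = - P.coroot i := by
  rw [P.coroot_reflectionPerm, P.coreflection_apply_self]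

variable {φ} in
lemma coroot_section {g : M →ₗ[ℤ] M'} {N : ℤ} (hg : ∀ m, φ.f (g m) = N • m) (i : idx) :
    (φ.q i : ℤ) • (LinearMap.lcomp ℤ ℤ g).toAddMonoidHom (P'.coroot (φ.e i)) =
      N • P.coroot i := by
  ext m
  have h1 := LinearMap.congr_fun (φ.coroot i) (g m)
  rw [LinearMap.comp_apply, hg, map_zsmul] at h1
  exact h1.symm

variable {φ}

include hp hP hP' in
lemma root_mem_span [P'.IsReduced] [Finite idx] (b : P.Base) (i : idx) :
    P'.root (φ.e i) ∈ Submodule.span ℤ
      (P'.root '' (b.support.map φ.e.toEmbedding : Finset idx')) := by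
  have : P.IsReduced := PinComb.isReduced b
  induction i using b.induction_reflect with
  | h₀ i hi =>
    rw [e_reflectionPerm φ hp hP hP', root_self]
    exact Submodule.neg_mem _ hi
  | h₁ i hi => exact Submodule.subset_span (Set.mem_image_of_mem _ (Finset.mem_coe.mpr
      (Finset.mem_map_of_mem _ hi)))
  | h₂ i j hi hj =>
    rw [e_reflectionPerm φ hp hP hP', P'.root_reflectionPerm, P'.reflection_apply_root]
    exact Submodule.sub_mem _ hi (Submodule.smul_mem _ _ (Submodule.subset_span
      (Set.mem_image_of_mem _ (Finset.mem_coe.mpr (Finset.mem_map_of_mem _ hj)))))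

include hp hP hP' in
lemma coroot_mem_span [P'.IsReduced] [Finite idx] (b : P.Base) (i : idx) :
    P'.coroot (φ.e i) ∈ Submodule.span ℤ
      (P'.coroot '' (b.support.map φ.e.toEmbedding : Finset idx')) := by
  have : P.IsReduced := PinComb.isReduced b
  induction i using b.induction_reflect with
  | h₀ i hi =>
    rw [e_reflectionPerm φ hp hP hP', coroot_self]
    exact Submodule.neg_mem _ hi
  | h₁ i hi => exact Submodule.subset_span (Set.mem_image_of_mem _ (Finset.mem_coe.mpr
      (Finset.mem_map_of_mem _ hi)))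
  | h₂ i j hi hj =>
    rw [e_reflectionPerm φ hp hP hP', P'.coroot_reflectionPerm, P'.coreflection_apply_coroot]
    exact Submodule.sub_mem _ hi (Submodule.smul_mem _ _ (Submodule.subset_span
      (Set.mem_image_of_mem _ (Finset.mem_coe.mpr (Finset.mem_map_of_mem _ hj)))))

variable (φ)

/-- **the base transported along an isogeny** -/
noncomputable def baseMap [Module.Free ℤ M] [Module.Finite ℤ M] [P'.IsReduced] [Finite idx]
    (hp : p ≠ 0) (hP : P.toLinearMap = Module.Dual.eval ℤ M)
    (hP' : P'.toLinearMap = Module.Dual.eval ℤ M') (b : P.Base) : P'.Base where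
  support := b.support.map φ.e.toEmbedding
  linearIndepOn_root := linearIndepOn_map (e := φ.e) (supp := b.support) (v := P.root)
    (v' := P'.root) (h := φ.f.toAddMonoidHom) (s := fun _ => 1) (r := fun i => φ.q i)
    (fun _ => one_pos) (fun i => by exact_mod_cast q_pos φ hp i)
    (fun i => by rw [one_smul]; exact φ.root i) b.linearIndepOn_root
  linearIndepOn_coroot := by
    obtain ⟨g, N, hN, hg⟩ := exists_section φ
    exact linearIndepOn_map (e := φ.e) (supp := b.support) (v := P.coroot)
      (v' := P'.coroot) (h := (LinearMap.lcomp ℤ ℤ g).toAddMonoidHom)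
      (s := fun i => φ.q i) (r := fun i => N)
      (fun i => by exact_mod_cast q_pos φ hp i) (fun _ => hN) (coroot_section hg)
      b.linearIndepOn_coroot
  root_mem_or_neg_mem i' := by
    obtain ⟨i, rfl⟩ := φ.e.surjective i'
    have key : ∀ i, P.root i ∈ AddSubmonoid.closure (P.root '' b.support) →
        P'.root (φ.e i) ∈ AddSubmonoid.closure
          (P'.root '' (b.support.map φ.e.toEmbedding : Finset idx')) := fun i hi =>
      mem_closure_map (e := φ.e) (supp := b.support) (v := P.root)
        (v' := P'.root) (h := φ.f.toAddMonoidHom) (s := fun _ => 1) (r := fun i => φ.q i)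
        (fun _ => one_pos) (fun i => by exact_mod_cast q_pos φ hp i)
        (fun i => by rw [one_smul]; exact φ.root i) b.linearIndepOn_root hi
        (root_mem_span hp hP hP' b i)
    rcases b.root_mem_or_neg_mem i with hi | hi
    · exact Or.inl (key i hi)
    · right
      rw [← root_self P] at hi
      have := key _ hi
      rwa [e_reflectionPerm φ hp hP hP', root_self] at this
  coroot_mem_or_neg_mem i' := by
    obtain ⟨g, N, hN, hg⟩ := exists_section φ
    obtain ⟨i, rfl⟩ := φ.e.surjective i'
    have key : ∀ i, P.coroot i ∈ AddSubmonoid.closure (P.coroot '' b.support) →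
        P'.coroot (φ.e i) ∈ AddSubmonoid.closure
          (P'.coroot '' (b.support.map φ.e.toEmbedding : Finset idx')) := fun i hi =>
      mem_closure_map (e := φ.e) (supp := b.support) (v := P.coroot)
        (v' := P'.coroot) (h := (LinearMap.lcomp ℤ ℤ g).toAddMonoidHom)
        (s := fun i => φ.q i) (r := fun i => N)
        (fun i => by exact_mod_cast q_pos φ hp i) (fun _ => hN) (coroot_section hg)
        b.linearIndepOn_coroot hi (coroot_mem_span hp hP hP' b i)
    rcases b.coroot_mem_or_neg_mem i with hi | hi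
    · exact Or.inl (key i hi)
    · right
      rw [← coroot_self P] at hi
      have := key _ hi
      rwa [e_reflectionPerm φ hp hP hP', coroot_self] at this

@[simp] lemma baseMap_support [Module.Free ℤ M] [Module.Finite ℤ M] [P'.IsReduced] [Finite idx]
    (hp : p ≠ 0) (hP : P.toLinearMap = Module.Dual.eval ℤ M)
    (hP' : P'.toLinearMap = Module.Dual.eval ℤ M') (b : P.Base) :
    (baseMap φ hp hP hP' b).support = b.support.map φ.e.toEmbedding := rfl

lemma mem_baseMap_support [Module.Free ℤ M] [Module.Finite ℤ M] [P'.IsReduced] [Finite idx]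
    (hp : p ≠ 0) (hP : P.toLinearMap = Module.Dual.eval ℤ M)
    (hP' : P'.toLinearMap = Module.Dual.eval ℤ M') (b : P.Base) (a : idx) :
    φ.e a ∈ (baseMap φ hp hP hP' b).support ↔ a ∈ b.support := by
  rw [baseMap_support, Finset.mem_map_equiv, Equiv.symm_apply_apply]

end isog

section torus

/-- characters with values in the units of an algebraically closed field extend along injections -/
theorem exists_extend_char {M M' : Type*} [AddCommGroup M] [AddCommGroup M'] {K : Type*} [Field K]
    [IsAlgClosed K] (f : M' →+ M) (hf : Function.Injective f) (t' : Multiplicative M' →* Kˣ) :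
    ∃ t : Multiplicative M →* Kˣ, t.comp (AddMonoidHom.toMultiplicative f) = t' := by
  have hsurj : ∀ {n : ℤ}, n ≠ 0 → Function.Surjective (fun a : Additive Kˣ => n • a) := by
    intro n hn a
    have hnat : 0 < n.natAbs := Int.natAbs_pos.2 hn
    obtain ⟨z, hz⟩ := IsAlgClosed.exists_pow_nat_eq ((a.toMul : Kˣ) : K) hnat
    have hz0 : z ≠ 0 := by
      intro h0
      rw [h0, zero_pow hnat.ne'] at hz
      exact (a.toMul : Kˣ).ne_zero hz.symm
    let y : Kˣ := Units.mk0 z hz0
    have hy : y ^ n.natAbs = a.toMul := Units.ext (by rw [Units.val_pow_eq_pow_val]; exact hz)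
    rcases Int.natAbs_eq n with h | h
    · refine ⟨Additive.ofMul y, ?_⟩
      change n • Additive.ofMul y = a
      rw [← ofMul_zpow, h, zpow_natCast, hy]
      rfl
    · refine ⟨Additive.ofMul y⁻¹, ?_⟩
      change n • Additive.ofMul y⁻¹ = a
      rw [← ofMul_zpow, h, zpow_neg, inv_zpow, inv_inv, zpow_natCast, hy]
      rfl
  have hdiv : DivisibleBy (Additive Kˣ) ℤ := divisibleByOfSMulRightSurj _ _ hsurj
  obtain ⟨F, hF⟩ := (Module.Baer.of_divisible (Additive Kˣ)).extension_property_addMonoidHom
    f hf (MonoidHom.toAdditiveRight t')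
  refine ⟨MonoidHom.toAdditiveRight.symm F, MonoidHom.ext fun m => ?_⟩
  exact congrArg Additive.toMul (DFunLike.congr_fun hF (Multiplicative.toAdd m))

end torus

end Groth.Agent.Agf.H593.IsogBase
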