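import Groth.Agent.Sga3B.CellField
import Groth.Agent.Sga3B.PtDescent
import Mathlib.RingTheory.Jacobson.Artinian
import Mathlib.RingTheory.Finiteness.Descent

/-!
# Homomorphisms of affine group functors with finite kernel are finite
(for the isogeny theorem S3931)
-/

set_option autoImplicit false
set_option linter.unusedSectionVars false
universe u

open TensorProduct

namespace Groth.Agent.Agf.H593.IsogKer

open Groth.Agent.Sga3B Groth.Agent.Sga3B.Cell Groth.Agent.Sga3B.PtDescent

section isolated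

variable {k A : Type u} [Field k] [CommRing A] [Algebra k A] [PtGrp k A]
  {K : Type u} [Field K] [Algebra k K]

/-- evaluation of elements of `K ⊗ A` at `K`-points -/
noncomputable def evK (g : Pt k A K) : K ⊗[k] A →ₐ[K] K :=
  Algebra.TensorProduct.lift (AlgHom.id K K) g.hom (fun _ _ => Commute.all _ _)

@[simp] lemma evK_tmul (g : Pt k A K) (c : K) (a : A) : evK g (c ⊗ₜ a) = c * g.hom a := by
  rw [evK, Algebra.TensorProduct.lift_tmul]
  rfl

/-- the universal point -/
noncomputable def uPt (k A K : Type u) [Field k] [CommRing A] [Algebra k A]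
    [Field K] [Algebra k K] : Pt k A (K ⊗[k] A) :=
  Pt.mk Algebra.TensorProduct.includeRight

lemma map_uPt (g : Pt k A K) : Pt.map ((evK g).restrictScalars k) (uPt k A K) = g := by
  apply Pt.ext
  intro a
  change evK g ((1 : K) ⊗ₜ a) = g.hom a
  rw [evK_tmul, one_mul]

/-- constant points -/
noncomputable def cPt (n : Pt k A K) : Pt k A (K ⊗[k] A) :=
  Pt.map ((Algebra.TensorProduct.includeLeft : K →ₐ[K] K ⊗[k] A).restrictScalars k) n

lemma map_cPt (g n : Pt k A K) : Pt.map ((evK g).restrictScalars k) (cPt n) = n := by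
  apply Pt.ext
  intro a
  change evK g ((n.hom a) ⊗ₜ (1 : A)) = n.hom a
  rw [evK_tmul, map_one, mul_one]

/-- left translation on functions -/
noncomputable def trans (n : Pt k A K) : K ⊗[k] A →ₐ[K] K ⊗[k] A :=
  Algebra.TensorProduct.lift (Algebra.ofId K (K ⊗[k] A)) (cPt n * uPt k A K).hom
    (fun _ _ => Commute.all _ _)

lemma evK_trans (g n : Pt k A K) (F : K ⊗[k] A) : evK g (trans n F) = evK (n * g) F := by
  have h : (evK g).comp (trans n) = evK (n * g) := by
    apply Algebra.TensorProduct.ext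
    · ext
    · apply AlgHom.ext
      intro a
      change evK g (trans n ((1 : K) ⊗ₜ a)) = evK (n * g) ((1 : K) ⊗ₜ a)
      rw [evK_tmul, one_mul, trans, Algebra.TensorProduct.lift_tmul, map_one, one_mul]
      have h1 : Pt.map ((evK g).restrictScalars k) (cPt n * uPt k A K) = n * g := by
        rw [Pt.map_mul, map_cPt, map_uPt]
      exact congrArg (fun z : Pt k A K => z.hom a) h1
  exact congrArg (fun z : K ⊗[k] A →ₐ[K] K => z F) h

/-- A subgroup of `K`-points with a finite neighbourhood of `1` is finite. -/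
theorem finite_of_isolated [Algebra.FiniteType k A] (N : Subgroup (Pt k A K)) (f₀ : A)
    (h1 : (1 : Pt k A K).hom f₀ ≠ 0) (hfin : {g | g ∈ N ∧ g.hom f₀ ≠ 0}.Finite) :
    (N : Set (Pt k A K)).Finite := by
  classical
  have hnoeth : IsNoetherianRing (K ⊗[k] A) := Algebra.FiniteType.isNoetherianRing K _
  -- separating functions
  have hsep : ∀ m : Pt k A K, ∃ F : K ⊗[k] A, evK m F = 0 ∧ (m ≠ 1 → evK 1 F ≠ 0) := by
    intro m
    by_cases hm : m = 1
    · exact ⟨0, map_zero _, fun h => absurd hm h⟩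
    · obtain ⟨a, ha⟩ : ∃ a, m.hom a ≠ (1 : Pt k A K).hom a := by
        by_contra! h
        exact hm (Pt.ext h)
      refine ⟨(1 : K) ⊗ₜ a - (m.hom a) ⊗ₜ (1 : A), ?_, fun _ => ?_⟩
      · rw [map_sub, evK_tmul, evK_tmul, map_one, mul_one, one_mul, sub_self]
      · rw [map_sub, evK_tmul, evK_tmul, map_one, mul_one, one_mul, sub_ne_zero]
        exact ha.symm
  choose F hF1 hF2 using hsep
  let δ : K ⊗[k] A := ((1 : K) ⊗ₜ f₀) * ∏ m ∈ hfin.toFinset.erase 1, F m
  have hδ1 : evK (1 : Pt k A K) δ ≠ 0 := by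
    rw [map_mul, evK_tmul, one_mul, map_prod]
    refine mul_ne_zero h1 (Finset.prod_ne_zero_iff.mpr fun m hm => hF2 m ?_)
    exact (Finset.mem_erase.mp hm).1
  have hδ0 : ∀ g ∈ N, g ≠ 1 → evK g δ = 0 := by
    intro g hg hg1
    rw [map_mul, evK_tmul, one_mul, map_prod]
    by_cases h0 : g.hom f₀ = 0
    · rw [h0, zero_mul]
    · rw [Finset.prod_eq_zero (i := g) _ (hF1 g), mul_zero]
      exact Finset.mem_erase.mpr ⟨hg1, hfin.mem_toFinset.mpr ⟨hg, h0⟩⟩
  let D : N → K ⊗[k] A := fun n => trans (n : Pt k A K)⁻¹ δ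
  have hD1 : ∀ n : N, evK (n : Pt k A K) (D n) ≠ 0 := by
    intro n
    rw [evK_trans, inv_mul_cancel]
    exact hδ1
  have hD0 : ∀ n m : N, n ≠ m → evK (m : Pt k A K) (D n) = 0 := by
    intro n m hnm
    rw [evK_trans]
    apply hδ0 _ (N.mul_mem (N.inv_mem n.2) m.2)
    intro h
    exact hnm (Subtype.ext (inv_mul_eq_one.mp h))
  obtain ⟨s, hs1, hs2⟩ := (Submodule.fg_span_iff_fg_span_finset_subset (Set.range D)).mp
    (IsNoetherian.noetherian (Ideal.span (Set.range D)))
  have hs3 : ∀ x ∈ s, ∃ n : N, D n = x := fun x hx => hs1 hx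
  choose! c hc using hs3
  have hsub : (Set.univ : Set N) ⊆ (s.image c : Finset N) := by
    intro n _
    by_contra hn
    have h2 : D n ∈ Submodule.span (K ⊗[k] A) (s : Set (K ⊗[k] A)) := by
      rw [← hs2]
      exact Submodule.subset_span ⟨n, rfl⟩
    have h3 : Submodule.span (K ⊗[k] A) (s : Set (K ⊗[k] A)) ≤
        RingHom.ker (evK (n : Pt k A K) : K ⊗[k] A →+* K) := by
      rw [Submodule.span_le]
      intro x hx
      rw [SetLike.mem_coe, RingHom.mem_ker]
      change evK (n : Pt k A K) x = 0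
      rw [← hc x hx]
      apply hD0
      intro h
      exact hn (by
        rw [Finset.mem_coe, Finset.mem_image]
        exact ⟨x, hx, h⟩)
    exact hD1 n (h3 h2)
  have h4 : (Set.univ : Set N).Finite := (Finset.finite_toSet _).subset hsub
  have h5 : Finite N := Set.finite_univ_iff.mp h4
  exact Set.toFinite _

end isolated

section fin

/-- a finite type algebra over an algebraically closed field with finitely many points is finite -/
theorem finite_of_points {K C : Type u} [Field K] [IsAlgClosed K] [CommRing C] [Algebra K C]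
    [Algebra.FiniteType K C] [Finite (C →ₐ[K] K)] : Module.Finite K C := by
  rw [Module.finite_iff_krullDimLE_zero, Ring.krullDimLE_zero_iff]
  intro p hp
  have : Fintype (C →ₐ[K] K) := Fintype.ofFinite _
  classical
  -- `p` contains the kernel of a point
  have h1 : ∃ φ : C →ₐ[K] K, RingHom.ker (φ : C →+* K) ≤ p ∧ p ≤ RingHom.ker (φ : C →+* K) := by
    by_contra! h
    -- for each point with kernel containing `p` choose an element of the kernel not in `p`
    have h2 : ∀ φ : C →ₐ[K] K, ∃ f : C, f ∉ p ∧ (p ≤ RingHom.ker (φ : C →+* K) → φ f = 0) := by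
      intro φ
      by_cases hφ : p ≤ RingHom.ker (φ : C →+* K)
      · obtain ⟨f, hf1, hf2⟩ := SetLike.not_le_iff_exists.mp (fun hle => h φ hle hφ)
        exact ⟨f, hf2, fun _ => hf1⟩
      · exact ⟨1, fun h1 => hp.ne_top ((Ideal.eq_top_iff_one p).mpr h1), fun h => absurd h hφ⟩
    choose f hf1 hf2 using h2
    have h3 : ∏ φ : C →ₐ[K] K, f φ ∉ p := by
      intro h4
      obtain ⟨φ, -, h5⟩ := (Ideal.IsPrime.prod_mem_iff (hp := hp)).mp h4
      exact hf1 φ h5
    -- a point of `C ⧸ p`
    have h4 : ¬ IsNilpotent (Ideal.Quotient.mk p (∏ φ : C →ₐ[K] K, f φ)) := by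
      rw [isNilpotent_iff_eq_zero, Ideal.Quotient.eq_zero_iff_mem]
      exact h3
    obtain ⟨ψ, hψ⟩ := exists_point_ne_zero K (B := C ⧸ p) h4
    let φ : C →ₐ[K] K := ψ.comp (Ideal.Quotient.mkₐ K p)
    have h5 : p ≤ RingHom.ker (φ : C →+* K) := by
      intro x hx
      rw [RingHom.mem_ker]
      change ψ (Ideal.Quotient.mk p x) = 0
      rw [Ideal.Quotient.eq_zero_iff_mem.mpr hx, map_zero]
    apply hψ
    change φ (∏ φ : C →ₐ[K] K, f φ) = 0
    rw [map_prod]
    exact Finset.prod_eq_zero (Finset.mem_univ φ) (hf2 φ h5)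
  obtain ⟨φ, h2, h3⟩ := h1
  have h4 : p = RingHom.ker (φ : C →+* K) := le_antisymm h3 h2
  rw [h4]
  exact RingHom.ker_isMaximal_of_surjective _ (fun x => ⟨algebraMap K C x, φ.commutes x⟩)

end fin

section kernel

variable {k A A' : Type u} [Field k] [CommRing A] [Algebra k A] [PtGrp k A] [CommRing A']
  [Algebra k A'] [PtGrp k A'] (φ : A' →ₐ[k] A)

/-- the ideal of the kernel -/
def kerIdeal : Ideal A :=
  Ideal.span (Set.range fun a' : A' => φ a' - algebraMap k A ((1 : Pt k A' k).hom a'))

lemma one_hom (B : Type u) [CommRing B] [Algebra k B] (a' : A') :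
    (1 : Pt k A' B).hom a' = algebraMap k B ((1 : Pt k A' k).hom a') := by
  rw [← Pt.map_one (A := A') (Algebra.ofId k B)]
  rfl

lemma comap_eq_one_iff {B : Type u} [CommRing B] [Algebra k B] (g : Pt k A B) :
    comap φ g = 1 ↔ kerIdeal φ ≤ RingHom.ker (g.hom : A →+* B) := by
  rw [kerIdeal, Ideal.span_le]
  constructor
  · rintro h _ ⟨a', rfl⟩
    rw [SetLike.mem_coe, RingHom.mem_ker]
    change g.hom (φ a' - algebraMap k A _) = 0
    rw [map_sub, AlgHom.commutes, ← one_hom, sub_eq_zero]
    exact congrArg (fun z : Pt k A' B => z.hom a') h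
  · intro h
    apply Pt.ext
    intro a'
    have h1 := h ⟨a', rfl⟩
    rw [SetLike.mem_coe, RingHom.mem_ker] at h1
    change g.hom (φ a' - algebraMap k A _) = 0 at h1
    rw [map_sub, AlgHom.commutes, ← one_hom, sub_eq_zero] at h1
    exact h1

/-- finiteness of the coordinate ring of the kernel -/
theorem finite_quotient [Algebra.FiniteType k A]
    (hK : {g : Pt k A (AlgebraicClosure k) | comap φ g = 1}.Finite) :
    Module.Finite k (A ⧸ kerIdeal φ) := by
  let K := AlgebraicClosure k
  have : Finite (K ⊗[k] (A ⧸ kerIdeal φ) →ₐ[K] K) := by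
    have hfin : Finite {g : Pt k A K | comap φ g = 1} := hK
    let F : (K ⊗[k] (A ⧸ kerIdeal φ) →ₐ[K] K) → {g : Pt k A K | comap φ g = 1} := fun s =>
      ⟨Pt.mk (((s.restrictScalars k).comp Algebra.TensorProduct.includeRight).comp
        (Ideal.Quotient.mkₐ k (kerIdeal φ))), by
        change comap φ _ = 1
        rw [comap_eq_one_iff]
        intro x hx
        rw [RingHom.mem_ker]
        change s ((1 : K) ⊗ₜ (Ideal.Quotient.mk (kerIdeal φ) x)) = 0
        rw [Ideal.Quotient.eq_zero_iff_mem.mpr hx, TensorProduct.tmul_zero, map_zero]⟩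
    refine Finite.of_injective F ?_
    intro s s' h
    apply Algebra.TensorProduct.ext
    · ext
    · apply Ideal.Quotient.algHom_ext
      exact congrArg Subtype.val h
  have h1 : Module.Finite K (K ⊗[k] (A ⧸ kerIdeal φ)) := finite_of_points
  exact Module.Finite.of_finite_tensorProduct_of_faithfullyFlat K

/-- **A faithfully flat homomorphism with finite kernel is finite.** -/
theorem finite_of_finite_quotient
    (hmul : ∀ (B : Type u) [CommRing B] [Algebra k B] (g h : Pt k A B),
      comap φ (g * h) = comap φ g * comap φ h)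
    (hff : letI : Algebra A' A := (φ : A' →+* A).toAlgebra
      Module.FaithfullyFlat A' A)
    (hfin : Module.Finite k (A ⧸ kerIdeal φ)) : (φ : A' →+* A).Finite := by
  let _ : Algebra A' A := (φ : A' →+* A).toAlgebra
  have hst : IsScalarTower k A' A := IsScalarTower.of_algebraMap_eq fun r => (φ.commutes r).symm
  have hff' : Module.FaithfullyFlat A' A := hff
  change Module.Finite A' A
  have hfin2 : Module.Finite A (A ⊗[A'] A) := by
    let B := A ⊗[A'] A
    let g : Pt k A B := Pt.mk ((Algebra.TensorProduct.includeLeft : A →ₐ[A] B).restrictScalars k)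
    let h : Pt k A B := Pt.mk ((Algebra.TensorProduct.includeRight : A →ₐ[A'] B).restrictScalars k)
    have hgh : comap φ g = comap φ h := by
      apply Pt.ext
      intro a'
      change (algebraMap A' A a') ⊗ₜ[A'] (1 : A) = (1 : A) ⊗ₜ[A'] (algebraMap A' A a')
      rw [Algebra.algebraMap_eq_smul_one, TensorProduct.smul_tmul]
    have hinv : ∀ z : Pt k A B, comap φ z⁻¹ = (comap φ z)⁻¹ := by
      intro z
      have h1 := hmul B z⁻¹ z
      have h2 : comap φ (1 : Pt k A B) = 1 := by
        have := hmul B 1 1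
        rw [one_mul] at this
        exact (mul_eq_left.mp this.symm)
      rw [inv_mul_cancel, h2] at h1
      exact eq_inv_of_mul_eq_one_left h1.symm
    have hn : comap φ (g⁻¹ * h) = 1 := by
      rw [hmul, hinv, hgh, inv_mul_cancel]
    rw [comap_eq_one_iff] at hn
    let n : A ⧸ kerIdeal φ →ₐ[k] B := Ideal.Quotient.liftₐ (kerIdeal φ) (g⁻¹ * h).hom
      (fun a ha => hn ha)
    -- the comparison map
    let Ψ : A ⊗[k] (A ⧸ kerIdeal φ) →ₐ[A] B :=
      Algebra.TensorProduct.lift (Algebra.ofId A B) n (fun _ _ => Commute.all _ _)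
    have hΨ : Function.Surjective Ψ := by
      -- the point `g * n` is in the image of `Ψ`
      let T := A ⊗[k] (A ⧸ kerIdeal φ)
      let gT : Pt k A T := Pt.mk ((Algebra.TensorProduct.includeLeft : A →ₐ[A] T).restrictScalars k)
      let nT : Pt k A T := Pt.mk ((Algebra.TensorProduct.includeRight :
        (A ⧸ kerIdeal φ) →ₐ[k] T).comp (Ideal.Quotient.mkₐ k (kerIdeal φ)))
      have h1 : Pt.map (Ψ.restrictScalars k) gT = g := by
        apply Pt.ext
        intro a
        change Ψ (a ⊗ₜ 1) = a ⊗ₜ[A'] (1 : A)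
        rw [Algebra.TensorProduct.lift_tmul, map_one, mul_one]
        rfl
      have h2 : Pt.map (Ψ.restrictScalars k) nT = g⁻¹ * h := by
        apply Pt.ext
        intro a
        change Ψ ((1 : A) ⊗ₜ (Ideal.Quotient.mk (kerIdeal φ) a)) = (g⁻¹ * h).hom a
        rw [Algebra.TensorProduct.lift_tmul, map_one, one_mul]
        rfl
      have h3 : Pt.map (Ψ.restrictScalars k) (gT * nT) = h := by
        rw [Pt.map_mul, h1, h2, mul_inv_cancel_left]
      have h4 : ∀ a : A, (1 : A) ⊗ₜ[A'] a ∈ Ψ.range := by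
        intro a
        refine ⟨(gT * nT).hom a, ?_⟩
        exact congrArg (fun z : Pt k A B => z.hom a) h3
      intro x
      induction x using TensorProduct.induction_on with
      | zero => exact ⟨0, map_zero _⟩
      | tmul a a' =>
        obtain ⟨y, hy⟩ := h4 a'
        refine ⟨a • y, ?_⟩
        rw [map_smul]
        change a • Ψ y = _
        have hy' : Ψ y = (1 : A) ⊗ₜ[A'] a' := hy
        rw [hy', TensorProduct.smul_tmul', smul_eq_mul, mul_one]
      | add x y hx hy =>
        obtain ⟨x', rfl⟩ := hx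
        obtain ⟨y', rfl⟩ := hy
        exact ⟨x' + y', map_add _ _ _⟩
    have : Module.Finite A (A ⊗[k] (A ⧸ kerIdeal φ)) := inferInstance
    exact Module.Finite.of_surjective Ψ.toLinearMap hΨ
  exact Module.Finite.of_finite_tensorProduct_of_faithfullyFlat A

end kernel

end Groth.Agent.Agf.H593.IsogKer
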